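import Groth.Prelude.Def_CInt
import Groth.Agent.FpqcDesc.Stalk
import Groth.Agent.S14189

/-!
# Descent of extensions of morphisms along flat surjective base change
-/

set_option autoImplicit false
set_option backward.isDefEq.respectTransparency false
set_option maxHeartbeats 1000000
universe u
open CategoryTheory CategoryTheory.Limits AlgebraicGeometry

namespace Groth.Agent.NeronDescLib

/-- A schematically dense open has schematically dominant inclusion. -/
theorem isSchemeTheoreticallyDominant_ι {X : Scheme.{u}} (U : X.Opens) [QuasiCompact U.ι]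
    (h : CInt.IsSchematicallyDense U) : IsSchemeTheoreticallyDominant U.ι := by
  refine ⟨?_⟩
  ext V : 2
  rw [Scheme.Hom.ker_apply, Scheme.IdealSheafData.ideal_bot, Pi.bot_apply, ← le_bot_iff]
  intro x hx
  rw [Ideal.mem_bot]
  apply h V.1
  rw [RingHom.mem_ker, Scheme.Opens.ι_app] at hx
  rw [map_zero]
  have e : U.ι ''ᵁ U.ι ⁻¹ᵁ V.1 = V.1 ⊓ U := by
    rw [U.ι.image_preimage_eq_opensRange_inf, Scheme.Opens.opensRange_ι, inf_comm]
  have := congrArg (X.presheaf.map (homOfLE e.ge).op) hx
  rw [map_zero] at this
  erw [← CommRingCat.comp_apply, ← Functor.map_comp] at this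
  exact this

/-- The map onto the scheme-theoretic image is schematically dominant. -/
theorem isSchemeTheoreticallyDominant_toImage {X Y : Scheme.{u}} (f : X ⟶ Y) :
    IsSchemeTheoreticallyDominant f.toImage := by
  let j := f.toImage.imageι
  have hle : (j ≫ f.imageι).ker ≤ f.imageι.ker := by
    have h1 : (j ≫ f.imageι).ker ≤ (f.toImage.toImage ≫ j ≫ f.imageι).ker :=
      Scheme.Hom.le_ker_comp _ _
    have h2 : f.toImage.toImage ≫ j ≫ f.imageι = f := by simp [j]
    rw [h2] at h1
    simpa [Scheme.Hom.imageι] using h1
  let s := IsClosedImmersion.lift (j ≫ f.imageι) f.imageι hle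
  have hs : s ≫ j = 𝟙 _ := by
    rw [← cancel_mono f.imageι, Category.assoc, IsClosedImmersion.lift_fac, Category.id_comp]
  haveI : IsSplitEpi j := IsSplitEpi.mk' ⟨s, hs⟩
  haveI : IsIso j := isIso_of_mono_of_isSplitEpi j
  refine ⟨?_⟩
  have h3 : j.ker = ⊥ := Scheme.Hom.ker_eq_bot j
  exact (Scheme.IdealSheafData.ker_subschemeι _).symm.trans h3

/-- Being an isomorphism descends along flat surjective maps, for maps locally of finite presentation. -/
theorem isIso_of_pullback_snd {Γ Y Y' : Scheme.{u}} (p : Γ ⟶ Y) [LocallyOfFinitePresentation p]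
    (q : Y' ⟶ Y) [Flat q] [Surjective q] [IsIso (pullback.snd p q)] : IsIso p := by
  haveI : Flat (pullback.fst p q ≫ p) := by
    rw [pullback.condition]
    infer_instance
  haveI : Flat p := Groth.Agent.FlatDescStalk.flat_of_comp (pullback.fst p q) p
  haveI : Surjective p := by
    haveI : Surjective (pullback.fst p q ≫ p) := by
      rw [pullback.condition]
      infer_instance
    exact Surjective.of_comp (pullback.fst p q) p
  haveI : Mono p := by
    let b := pullback.fst p p ≫ p
    let l₁ : pullback b q ⟶ pullback p q :=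
      pullback.lift (pullback.fst b q ≫ pullback.fst p p) (pullback.snd b q)
        (by rw [Category.assoc, ← pullback.condition])
    let l₂ : pullback b q ⟶ pullback p q :=
      pullback.lift (pullback.fst b q ≫ pullback.snd p p) (pullback.snd b q)
        (by rw [Category.assoc, ← pullback.condition (f := p) (g := p), ← pullback.condition])
    have hl : l₁ = l₂ := by
      rw [← cancel_mono (pullback.snd p q), pullback.lift_snd, pullback.lift_snd]
    haveI : Epi (pullback.fst b q) := Flat.epi_of_flat_of_surjective _
    have h := congrArg (· ≫ pullback.fst p q) hl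
    simp only [l₁, l₂, pullback.lift_fst] at h
    rw [cancel_epi] at h
    refine ⟨fun {W} g₁ g₂ hg => ?_⟩
    have := congrArg (pullback.lift g₁ g₂ hg ≫ ·) h
    simpa using this
  haveI : IsOpenImmersion p := IsOpenImmersion.of_flat_of_mono p
  exact (isIso_iff_isOpenImmersion_and_epi_base p).mpr
    ⟨inferInstance, (TopCat.epi_iff_surjective _).mpr p.surjective⟩

/-- A morphism defined on a schematically dense part extends if it extends after flat surjective base change. -/
theorem exists_extension {Y N Y₀ S Y' : Scheme.{u}} [IsLocallyNoetherian Y]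
    (pY : Y ⟶ S) (pN : N ⟶ S) [IsSeparated pN] [LocallyOfFiniteType pN]
    (a : Y₀ ⟶ Y) [IsSchemeTheoreticallyDominant a] [QuasiCompact a]
    (w : Y₀ ⟶ N) (hw : w ≫ pN = a ≫ pY)
    (q : Y' ⟶ Y) [Flat q] [Surjective q]
    (e : Y' ⟶ N) (he : e ≫ pN = q ≫ pY) (hag : pullback.fst a q ≫ w = pullback.snd a q ≫ e) :
    ∃ f : Y ⟶ N, f ≫ pN = pY ∧ a ≫ f = w := by
  let gr : Y₀ ⟶ pullback pY pN := pullback.lift a w hw.symm
  haveI : QuasiCompact (gr ≫ pullback.fst pY pN) := by
    rw [pullback.lift_fst]
    infer_instance
  haveI : QuasiCompact gr := QuasiCompact.of_comp gr (pullback.fst pY pN)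
  let h := gr.toImage
  haveI : IsSchemeTheoreticallyDominant h := isSchemeTheoreticallyDominant_toImage gr
  let i := gr.imageι
  have hhi : h ≫ i = gr := gr.toImage_imageι
  let p : gr.image ⟶ Y := i ≫ pullback.fst pY pN
  haveI : LocallyOfFinitePresentation p := inferInstance
  haveI : Flat (pullback.fst p q) := inferInstance
  let lqe : Y' ⟶ pullback pY pN := pullback.lift q e he.symm
  have hker : i.ker ≤ lqe.ker := by
    have h1 : (pullback.snd a q ≫ lqe).ker = lqe.ker := by
      rw [Scheme.Hom.ker_comp, Scheme.Hom.ker_eq_bot, Scheme.IdealSheafData.map_bot]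
    have h2 : pullback.fst a q ≫ gr = pullback.snd a q ≫ lqe := by
      apply pullback.hom_ext
      · simp [gr, lqe, pullback.condition]
      · simp [gr, lqe, hag]
    rw [← h1, ← h2]
    have : i.ker = gr.ker := by simp [i, Scheme.Hom.imageι]
    rw [this]
    exact Scheme.Hom.le_ker_comp _ _
  let σ := IsClosedImmersion.lift i lqe hker
  have hσ : σ ≫ i = lqe := IsClosedImmersion.lift_fac _ _ _
  have hσp : σ ≫ p = q := by
    show σ ≫ i ≫ pullback.fst pY pN = q
    rw [reassoc_of% hσ, pullback.lift_fst]
  let t := pullback.snd p q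
  let s : Y' ⟶ pullback p q := pullback.lift σ (𝟙 _) (by rw [hσp, Category.id_comp])
  have key : pullback.fst p q ≫ i = t ≫ lqe := by
    have hc1 : (pullback.fst p q ≫ i) ≫ pullback.fst pY pN = (t ≫ lqe) ≫ pullback.fst pY pN := by
      simp only [Category.assoc, lqe, pullback.lift_fst]
      exact pullback.condition
    apply pullback.hom_ext hc1
    refine Groth.Agent.S14189.ext_of_dominant (pullback.snd h (pullback.fst p q)) pN ?_ ?_
    · have := congrArg (· ≫ pY) hc1
      simp only [Category.assoc] at this ⊢
      rw [← pullback.condition]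
      exact this
    · have hha : h ≫ p = a := by
        show h ≫ i ≫ pullback.fst pY pN = a
        rw [reassoc_of% hhi, pullback.lift_fst]
      let c := pullback.fst h (pullback.fst p q)
      let d := pullback.snd h (pullback.fst p q)
      have hcd : c ≫ h = d ≫ pullback.fst p q := pullback.condition
      let m : pullback h (pullback.fst p q) ⟶ pullback a q := pullback.lift c (d ≫ t) (by
        rw [← hha, reassoc_of% hcd, Category.assoc]
        exact congrArg (d ≫ ·) pullback.condition)
      have hm := congrArg (m ≫ ·) hag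
      simp only [m, pullback.lift_fst_assoc, pullback.lift_snd_assoc, Category.assoc] at hm
      simp only [Category.assoc, lqe, pullback.lift_snd]
      rw [← hm, ← reassoc_of% hcd, reassoc_of% hhi, pullback.lift_snd]
  haveI : IsIso t := ⟨s, by
    apply pullback.hom_ext
    · simp only [Category.assoc, s, pullback.lift_fst, Category.id_comp]
      rw [← cancel_mono i, Category.assoc, hσ, key]
    · simp [s, t], by simp [s, t]⟩
  haveI : IsIso p := isIso_of_pullback_snd p q
  refine ⟨inv p ≫ i ≫ pullback.snd pY pN, ?_, ?_⟩
  · simp only [Category.assoc, ← pullback.condition]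
    rw [IsIso.inv_comp_eq]
    simp [p]
  · have hha : a = h ≫ p := by
      show a = h ≫ i ≫ pullback.fst pY pN
      rw [reassoc_of% hhi, pullback.lift_fst]
    rw [hha, Category.assoc, IsIso.hom_inv_id_assoc, reassoc_of% hhi, pullback.lift_snd]

end Groth.Agent.NeronDescLib
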