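import Groth.Agent.AffLim.Presentation
import Mathlib

/-!
# Mapping properties pass to localisations
-/

set_option autoImplicit false
set_option backward.isDefEq.respectTransparency false
set_option maxHeartbeats 1000000
universe u
open CategoryTheory CategoryTheory.Limits AlgebraicGeometry

namespace Groth.Agent.NeronDescLib

/-- Maps to `N` over `S` extend uniquely from the part over the open `U`. -/
def ExtProp {S N Y : Scheme.{u}} (U : S.Opens) (pN : N ⟶ S) (pY : Y ⟶ S) : Prop :=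
  ∀ w : (pY ⁻¹ᵁ U : Scheme) ⟶ N, w ≫ pN = (pY ⁻¹ᵁ U).ι ≫ pY →
    ∃! f : Y ⟶ N, f ≫ pN = pY ∧ (pY ⁻¹ᵁ U).ι ≫ f = w

theorem extProp_of_isIso {S N Y Z : Scheme.{u}} (U : S.Opens) (pN : N ⟶ S) {pY : Y ⟶ S} {pZ : Z ⟶ S}
    (e : Y ≅ Z) (he : e.hom ≫ pZ = pY) (h : ExtProp U pN pZ) : ExtProp U pN pY := by
  intro w hw
  have hle : e.inv ⁻¹ᵁ (pY ⁻¹ᵁ U) = pZ ⁻¹ᵁ U := by
    rw [← Scheme.Hom.comp_preimage, ← he, e.inv_hom_id_assoc]
  have hle' : e.hom ⁻¹ᵁ (pZ ⁻¹ᵁ U) = pY ⁻¹ᵁ U := by rw [← Scheme.Hom.comp_preimage, he]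
  let w' := e.inv.resLE (pY ⁻¹ᵁ U) (pZ ⁻¹ᵁ U) hle.ge ≫ w
  have hw' : w' ≫ pN = (pZ ⁻¹ᵁ U).ι ≫ pZ := by
    simp only [w', Category.assoc, hw]
    rw [Scheme.Hom.resLE_comp_ι_assoc, ← he, e.inv_hom_id_assoc]
  obtain ⟨f, ⟨hf1, hf2⟩, huniq⟩ := h w' hw'
  refine ⟨e.hom ≫ f, ⟨by rw [Category.assoc, hf1, he], ?_⟩, fun g hg => ?_⟩
  · rw [← Scheme.Hom.resLE_comp_ι_assoc e.hom hle'.ge f, hf2]
    simp only [w', ← Category.assoc, Scheme.Hom.resLE_comp_resLE]
    convert Category.id_comp w using 2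
    rw [← cancel_mono (pY ⁻¹ᵁ U).ι, Scheme.Hom.resLE_comp_ι, e.hom_inv_id, Category.comp_id, Category.id_comp]
  · have := huniq (e.inv ≫ g) ⟨by rw [Category.assoc, hg.1, ← he, e.inv_hom_id_assoc], by
      simp only [w', ← hg.2, Scheme.Hom.resLE_comp_ι_assoc]⟩
    rw [← this, e.hom_inv_id_assoc]

variable {I : Type u} [SmallCategory I] [IsCofiltered I] {S N : Scheme.{u}}
  (D : I ⥤ Scheme.{u}) [∀ {i j} (f : i ⟶ j), IsAffineHom (D.map f)]
  [∀ i, CompactSpace (D.obj i)] [∀ i, QuasiSeparatedSpace (D.obj i)] [∀ i, IsLocallyNoetherian (D.obj i)]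
  (c : Cone D) (hc : IsLimit c) (t : D ⟶ (Functor.const I).obj S) (q : c.pt ⟶ S)
  (hq : ∀ i, c.π.app i ≫ t.app i = q) (U : S.Opens) (pN : N ⟶ S) [LocallyOfFinitePresentation pN]

include hc hq in
/-- The extension property passes to limits with affine transition maps. -/
theorem extProp_limit (h : ∀ i, ExtProp U pN (t.app i)) : ExtProp U pN q := by
  have ht : ∀ {i j : I} (f : i ⟶ j), D.map f ≫ t.app j = t.app i := fun f => by simp
  have hpre : ∀ {i : I} (j : Over i), D.map j.hom ⁻¹ᵁ (t.app i ⁻¹ᵁ U) = t.app j.left ⁻¹ᵁ U := by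
    intro i j
    rw [← Scheme.Hom.comp_preimage, ht]
  have hpt : ∀ i : I, c.π.app i ⁻¹ᵁ (t.app i ⁻¹ᵁ U) = q ⁻¹ᵁ U := fun i => by
    rw [← Scheme.Hom.comp_preimage, hq]
  intro w hw
  obtain ⟨i⟩ := IsCofiltered.nonempty (C := I)
  let O := t.app i ⁻¹ᵁ U
  let E := opensDiagram D i O
  haveI : ∀ {a b : Over i} (f : a ⟶ b), IsAffineHom (E.map f) := fun {a b} f => by
    refine MorphismProperty.of_isPullback (P := @IsAffineHom) (g := D.map f.left)
      (f := (D.map b.hom ⁻¹ᵁ O).ι) (g' := E.map f) (f' := (D.map a.hom ⁻¹ᵁ O).ι) ?_ inferInstance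
    refine (IsOpenImmersion.isPullback _ _ _ _ (Scheme.Hom.resLE_comp_ι _ _).symm ?_).flip
    simp [← Scheme.Hom.comp_preimage, ← Functor.map_comp]
  haveI : ∀ a : Over i, CompactSpace (E.obj a) := fun a => by
    show CompactSpace (D.map a.hom ⁻¹ᵁ O : Scheme)
    haveI : AlgebraicGeometry.IsNoetherian (D.obj a.left) := {}
    exact isCompact_iff_compactSpace.mp (TopologicalSpace.NoetherianSpace.isCompact _)
  haveI : ∀ a : Over i, QuasiSeparatedSpace (E.obj a) := fun a => inferInstanceAs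
    (QuasiSeparatedSpace (D.map a.hom ⁻¹ᵁ O : Scheme))
  let cE := opensCone D c i O
  let hcE : IsLimit cE := isLimitOpensCone D c hc i O
  let tE : E ⟶ (Functor.const (Over i)).obj S :=
    { app := fun a => (D.map a.hom ⁻¹ᵁ O).ι ≫ t.app a.left
      naturality := fun a b f => by
        simp only [Functor.const_obj_obj, Functor.const_obj_map, Category.comp_id, E, opensDiagram]
        rw [Scheme.Hom.resLE_comp_ι_assoc, ht] }
  let e := (Scheme.isoOfEq c.pt (hpt i)).hom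
  have hea : cE.π ≫ tE = (Functor.const _).map ((e ≫ w) ≫ pN) := by
    ext a
    simp only [NatTrans.comp_app, Functor.const_map_app, cE, tE, opensCone_π_app]
    rw [Scheme.Hom.resLE_comp_ι_assoc, hq, Category.assoc, hw]
    simp [e, O]
  obtain ⟨j, g, hg, hgt⟩ := Scheme.exists_π_app_comp_eq_of_locallyOfFinitePresentation E tE pN cE hcE
    (e ≫ w) hea
  have hej : t.app j.left ⁻¹ᵁ U = D.map j.hom ⁻¹ᵁ O := (hpre j).symm
  obtain ⟨F, ⟨hF1, hF2⟩, -⟩ := h j.left ((Scheme.isoOfEq _ hej).hom ≫ g) (by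
    rw [Category.assoc, hgt]
    simp [tE])
  have hg' : ∀ f : D.obj j.left ⟶ N, (t.app j.left ⁻¹ᵁ U).ι ≫ f = (Scheme.isoOfEq _ hej).hom ≫ g →
      (q ⁻¹ᵁ U).ι ≫ c.π.app j.left ≫ f = w := by
    intro f hf
    have : (D.map j.hom ⁻¹ᵁ O).ι ≫ f = g := by
      rw [← cancel_epi (Scheme.isoOfEq _ hej).hom, ← hf]
      simp
    rw [← cancel_epi e, ← hg, ← this]
    simp only [cE, opensCone_π_app, Scheme.Hom.resLE_comp_ι_assoc, e, Scheme.isoOfEq_hom_ι_assoc]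
    rfl
  refine ⟨c.π.app j.left ≫ F, ⟨by rw [Category.assoc, hF1, hq], hg' F hF2⟩, fun G hG => ?_⟩
  have hGq : c.π ≫ t = (Functor.const I).map (G ≫ pN) := by
    ext k
    simp [hq, hG.1]
  obtain ⟨k, G', hG', hG't⟩ := Scheme.exists_π_app_comp_eq_of_locallyOfFinitePresentation D t pN c hc G hGq
  obtain ⟨l, a, b, -⟩ := IsCofilteredOrEmpty.cone_objs k j.left
  let A := D.map a ≫ G'
  let B := D.map b ≫ F
  let al : Over i := Over.mk (b ≫ j.hom)
  let jl : al ⟶ j := Over.homMk b rfl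
  have hAt : A ≫ pN = t.app l := by rw [Category.assoc, hG't, ht]
  have hBt : B ≫ pN = t.app l := by rw [Category.assoc, hF1, ht]
  let ιl := (D.map al.hom ⁻¹ᵁ O).ι
  have hab : cE.π.app al ≫ ιl ≫ A = cE.π.app al ≫ ιl ≫ B := by
    have h1 : c.π.app l ≫ A = G := by rw [← Category.assoc, c.w, hG']
    have h2 : c.π.app l ≫ B = c.π.app j.left ≫ F := by rw [← Category.assoc, c.w]
    simp only [cE, opensCone_π_app, ιl, Scheme.Hom.resLE_comp_ι_assoc]
    show _ ≫ c.π.app l ≫ A = _ ≫ c.π.app l ≫ B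
    rw [h1, h2]
    have h3 := hG.2.trans (hg' F hF2).symm
    rw [← Scheme.isoOfEq_hom_ι_assoc c.pt (hpt i) G, h3, Scheme.isoOfEq_hom_ι_assoc]
  obtain ⟨m, hm, hmeq⟩ := Scheme.exists_hom_comp_eq_comp_of_locallyOfFiniteType E tE pN cE hcE
    (i := al) (ιl ≫ A) (ιl ≫ B) (by simp [tE, hAt, ιl]; rfl) (by simp [tE, hBt, ιl]; rfl) hab
  have heq : D.map hm.left ≫ A = D.map hm.left ≫ B := by
    have hA' : (D.map hm.left ≫ A) ≫ pN = t.app m.left := by rw [Category.assoc, hAt]; exact ht _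
    have hB' : (D.map hm.left ≫ B) ≫ pN = t.app m.left := by rw [Category.assoc, hBt]; exact ht _
    have hem : t.app m.left ⁻¹ᵁ U = D.map m.hom ⁻¹ᵁ O := (hpre m).symm
    have hι : (t.app m.left ⁻¹ᵁ U).ι ≫ D.map hm.left ≫ A = (t.app m.left ⁻¹ᵁ U).ι ≫ D.map hm.left ≫ B := by
      simp only [E, opensDiagram, ιl, Scheme.Hom.resLE_comp_ι_assoc] at hmeq
      rw [← Scheme.isoOfEq_hom_ι_assoc _ hem, ← Scheme.isoOfEq_hom_ι_assoc _ hem (D.map hm.left ≫ B)]
      exact congrArg (_ ≫ ·) hmeq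
    refine (h m.left ((t.app m.left ⁻¹ᵁ U).ι ≫ D.map hm.left ≫ A) ?_).unique ⟨hA', rfl⟩ ⟨hB', hι.symm⟩
    rw [Category.assoc, Category.assoc, hAt]; exact congrArg (_ ≫ ·) (ht _)
  have h4 := congrArg (c.π.app m.left ≫ ·) heq
  simp only [A, B] at h4
  rw [← Category.assoc, c.w, ← Category.assoc, c.w, ← Category.assoc (c.π.app m.left), c.w] at h4
  rw [← hG', h4]
  exact (Category.assoc _ _ _).symm.trans (congrArg (· ≫ F) (c.w b))

end Groth.Agent.NeronDescLib
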