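import Groth.Agent.NeronDescLib.Limit

/-!
# Smooth schemes over a local ring are localisations of smooth schemes
-/

set_option autoImplicit false
set_option backward.isDefEq.respectTransparency false
set_option maxHeartbeats 4000000
universe u
open CategoryTheory CategoryTheory.Limits AlgebraicGeometry
open scoped TensorProduct

namespace Groth.Agent.NeronDescLib

section Localization

variable {B : Type u} [CommRing B] (M : Submonoid B)

/-- The elements of a submonoid, ordered by divisibility. -/
def Idx : Type u := {b : B // b ∈ M}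

instance : Preorder (Idx M) where
  le a b := a.1 ∣ b.1
  le_refl a := dvd_rfl
  le_trans a b c := dvd_trans

instance : IsDirectedOrder (Idx M) :=
  ⟨fun a b => ⟨⟨a.1 * b.1, M.mul_mem a.2 b.2⟩, dvd_mul_right a.1 b.1, dvd_mul_left b.1 a.1⟩⟩

instance : Nonempty (Idx M) := ⟨⟨1, M.one_mem⟩⟩

theorem isUnit_away {a b : Idx M} (h : a ≤ b) : IsUnit (algebraMap B (Localization.Away b.1) a.1) :=
  isUnit_of_dvd_unit (map_dvd _ h) (IsLocalization.Away.algebraMap_isUnit _)

/-- The transition maps between localisations away from elements. -/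
noncomputable def awayMap {a b : Idx M} (h : a ≤ b) : Localization.Away a.1 →+* Localization.Away b.1 :=
  IsLocalization.Away.lift a.1 (isUnit_away M h)

@[simp] theorem awayMap_algebraMap {a b : Idx M} (h : a ≤ b) (x : B) :
    awayMap M h (algebraMap B (Localization.Away a.1) x) = algebraMap B (Localization.Away b.1) x :=
  IsLocalization.Away.lift_eq _ (isUnit_away M h) x

/-- The localisations away from the elements of a submonoid. -/
noncomputable def awaySystem : Idx M ⥤ CommRingCat.{u} where
  obj b := CommRingCat.of (Localization.Away b.1)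
  map f := CommRingCat.ofHom (awayMap M f.le)
  map_id a := CommRingCat.hom_ext <| IsLocalization.ringHom_ext (Submonoid.powers a.1) <|
    RingHom.ext fun x => by simp
  map_comp {a b c} f g := CommRingCat.hom_ext <| IsLocalization.ringHom_ext (Submonoid.powers a.1) <|
    RingHom.ext fun x => by simp

variable (L : Type u) [CommRing L] [Algebra B L] [IsLocalization M L]

/-- From a stage to the localisation at the submonoid. -/
noncomputable def toLoc (a : Idx M) : Localization.Away a.1 →+* L :=
  IsLocalization.Away.lift a.1 (IsLocalization.map_units L (⟨a.1, a.2⟩ : M))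

@[simp] theorem toLoc_algebraMap (a : Idx M) (x : B) :
    toLoc M L a (algebraMap B (Localization.Away a.1) x) = algebraMap B L x :=
  IsLocalization.Away.lift_eq _ _ x

theorem toLoc_surjective (x : L) : ∃ (a : Idx M) (y : Localization.Away a.1), toLoc M L a y = x := by
  obtain ⟨⟨b, m⟩, hbm⟩ := IsLocalization.surj M x
  let a : Idx M := ⟨m.1, m.2⟩
  obtain ⟨y, hy⟩ : ∃ y : Localization.Away a.1, y * algebraMap B _ a.1 = algebraMap B _ b :=
    ⟨IsLocalization.mk' _ b (⟨a.1, Submonoid.mem_powers _⟩ : Submonoid.powers a.1), IsLocalization.mk'_spec _ _ _⟩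
  refine ⟨a, y, (IsLocalization.map_units L m).mul_right_cancel ?_⟩
  have h1 := congrArg (toLoc M L a) hy
  rw [map_mul, toLoc_algebraMap, toLoc_algebraMap] at h1
  exact h1.trans hbm.symm

theorem toLoc_eq {j : Idx M} {x y : Localization.Away j.1} (e : toLoc M L j x = toLoc M L j y) :
    ∃ (k : Idx M) (h : j ≤ k), awayMap M h x = awayMap M h y := by
  obtain ⟨⟨a, s⟩, hs⟩ := IsLocalization.surj (Submonoid.powers j.1) x
  obtain ⟨⟨b, r⟩, hr⟩ := IsLocalization.surj (Submonoid.powers j.1) y
  have e'' : algebraMap B L (a * r.1) = algebraMap B L (b * s.1) := by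
    have h1 := congrArg (toLoc M L j) hs
    have h2 := congrArg (toLoc M L j) hr
    simp only [map_mul, toLoc_algebraMap] at h1 h2 ⊢
    linear_combination (algebraMap B L s.1 * algebraMap B L r.1) * e - (algebraMap B L r.1) * h1 +
      (algebraMap B L s.1) * h2
  obtain ⟨⟨m, hm⟩, hm'⟩ := (IsLocalization.eq_iff_exists M L).1 e''
  let k : Idx M := ⟨j.1 * m, M.mul_mem j.2 hm⟩
  have hjk : j ≤ k := dvd_mul_right j.1 m
  refine ⟨k, hjk, ?_⟩
  have hmu : IsUnit (algebraMap B (Localization.Away k.1) m) :=
    isUnit_of_dvd_unit (map_dvd _ (dvd_mul_left m j.1)) (IsLocalization.Away.algebraMap_isUnit _)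
  have hsu : ∀ z : Submonoid.powers j.1, IsUnit (algebraMap B (Localization.Away k.1) z.1) := by
    rintro ⟨_, n, rfl⟩
    simpa using (isUnit_away M hjk).pow n
  have h3 := congrArg (algebraMap B (Localization.Away k.1)) hm'
  have h1 := congrArg (awayMap M hjk) hs
  have h2 := congrArg (awayMap M hjk) hr
  simp only [map_mul, awayMap_algebraMap] at h1 h2 h3
  rw [← ((hmu.mul (hsu s)).mul (hsu r)).mul_left_inj]
  linear_combination h3 + (algebraMap B (Localization.Away k.1) m * algebraMap B (Localization.Away k.1) r.1) * h1 -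
    (algebraMap B (Localization.Away k.1) m * algebraMap B (Localization.Away k.1) s.1) * h2

/-- The localisation under the system. -/
noncomputable def locCocone : Cocone (awaySystem M) where
  pt := CommRingCat.of L
  ι :=
    { app := fun a => CommRingCat.ofHom (toLoc M L a)
      naturality := fun {a b} f => CommRingCat.hom_ext <|
        @IsLocalization.ringHom_ext B _ (Submonoid.powers a.1) (Localization.Away a.1) _ _ _ L _ _ _ <|
        RingHom.ext fun (x : B) => by
          show toLoc M L b (awayMap M f.le (algebraMap B (Localization.Away a.1) x)) =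
            toLoc M L a (algebraMap B (Localization.Away a.1) x)
          rw [awayMap_algebraMap, toLoc_algebraMap, toLoc_algebraMap] }

include M in
/-- The extension property passes to a localisation. -/
theorem extProp_localization {S N : Scheme.{u}} (U : S.Opens) (pN : N ⟶ S) [LocallyOfFinitePresentation pN]
    [IsNoetherianRing B] (t : Spec (CommRingCat.of B) ⟶ S)
    (h : ∀ b : B, ExtProp U pN (Spec.map (CommRingCat.ofHom (algebraMap B (Localization.Away b))) ≫ t)) :
    ExtProp U pN (Spec.map (CommRingCat.ofHom (algebraMap B L)) ≫ t) := by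
  obtain ⟨hc⟩ := AffLim.nonempty_isColimit_of_elementwise (locCocone M L)
    (toLoc_surjective M L) (fun j x y e => toLoc_eq M L e)
  let D : (Idx M)ᵒᵖ ⥤ Scheme.{u} := (awaySystem M).op ⋙ Scheme.Spec
  let c' : Cone D := Scheme.Spec.mapCone (locCocone M L).op
  have hc' : IsLimit c' := isLimitOfPreserves Scheme.Spec hc.op
  haveI : ∀ {i j : (Idx M)ᵒᵖ} (a : i ⟶ j), IsAffineHom (D.map a) := fun a => inferInstanceAs (IsAffineHom (Spec.map _))
  haveI : ∀ i, CompactSpace (D.obj i) := fun i =>
    inferInstanceAs (CompactSpace (Spec (CommRingCat.of (Localization.Away i.unop.1))))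
  haveI : ∀ i, QuasiSeparatedSpace (D.obj i) := fun i =>
    inferInstanceAs (QuasiSeparatedSpace (Spec (CommRingCat.of (Localization.Away i.unop.1))))
  haveI : ∀ i, IsLocallyNoetherian (D.obj i) := fun i => by
    haveI : IsNoetherianRing (Localization.Away i.unop.1) :=
      IsLocalization.isNoetherianRing (Submonoid.powers i.unop.1) _ inferInstance
    exact inferInstanceAs (IsLocallyNoetherian (Spec (CommRingCat.of (Localization.Away i.unop.1))))
  let tn : D ⟶ (Functor.const (Idx M)ᵒᵖ).obj S :=
    { app := fun i => Spec.map (CommRingCat.ofHom (algebraMap B (Localization.Away i.unop.1))) ≫ t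
      naturality := fun i j a => by
        simp only [Functor.const_obj_obj, Functor.const_obj_map, Category.comp_id]
        show Spec.map (CommRingCat.ofHom (awayMap M a.unop.le)) ≫ _ = _
        rw [← Spec.map_comp_assoc]
        congr 2
        exact CommRingCat.hom_ext (RingHom.ext fun x => awayMap_algebraMap M a.unop.le x) }
  refine extProp_limit D c' hc' tn _ (fun i => ?_) U pN fun i => h i.unop.1
  show Spec.map (CommRingCat.ofHom (toLoc M L i.unop)) ≫ Spec.map _ ≫ t = _
  rw [← Spec.map_comp_assoc]
  congr 2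
  exact CommRingCat.hom_ext (RingHom.ext fun x => toLoc_algebraMap M L i.unop x)

end Localization

/-- A smooth algebra over a localisation at a prime of a noetherian ring is a localisation of a smooth one. -/
theorem exists_smooth_model (R : Type u) [CommRing R] [IsNoetherianRing R] (p : Ideal R) [p.IsPrime]
    (A : Type u) [CommRing A] [Algebra R A] [IsLocalization.AtPrime A p]
    (B : Type u) [CommRing B] [Algebra A B] [Algebra.Smooth A B] :
    ∃ (B₁ : Type u) (_ : CommRing B₁) (_ : Algebra R B₁), Algebra.Smooth R B₁ ∧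
      Nonempty (B ≃ₐ[A] A ⊗[R] B₁) := by
  classical
  obtain ⟨A₀, B₀, _, _, hfg, hsm, ⟨e⟩⟩ := Algebra.Smooth.exists_subalgebra_fg R A B
  obtain ⟨G, hG⟩ := hfg
  obtain ⟨⟨f, hf⟩, hfG⟩ := IsLocalization.exist_integer_multiples p.primeCompl G id
  obtain ⟨T, hT⟩ := (IsNoetherian.noetherian (RingHom.ker (algebraMap R A)) : (RingHom.ker (algebraMap R A)).FG)
  have hT' : ∀ x : T, ∃ g ∈ p.primeCompl, g * x.1 = 0 := fun x => by
    obtain ⟨⟨g, hg⟩, hgx⟩ := (IsLocalization.map_eq_zero_iff p.primeCompl A x.1).1
      (hT.le (Ideal.subset_span x.2))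
    exact ⟨g, hg, hgx⟩
  choose g hg hgx using hT'
  let h := f * ∏ x, g x
  have hh : h ∈ p.primeCompl := p.primeCompl.mul_mem hf (prod_mem fun x _ => hg x)
  have hker : ∀ a, algebraMap R A a = 0 → h * a = 0 := by
    intro a ha
    have ha' : a ∈ Ideal.span (T : Set R) := by
      rw [show Ideal.span (T : Set R) = RingHom.ker (algebraMap R A) from hT]
      exact ha
    refine Submodule.span_induction (fun x hx => ?_) (mul_zero h)
      (fun x y _ _ hx hy => by rw [mul_add, hx, hy, add_zero])
      (fun r x _ hx => by rw [smul_eq_mul, mul_left_comm, hx, mul_zero]) ha'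
    obtain ⟨c, hc⟩ := Finset.dvd_prod_of_mem g (Finset.mem_univ (⟨x, hx⟩ : T))
    simp only [h, hc]
    linear_combination (f * c) * hgx ⟨x, hx⟩
  let R' := Localization.Away h
  have huA : IsUnit (algebraMap R A h) := IsLocalization.map_units A (⟨h, hh⟩ : p.primeCompl)
  let φ : R' →ₐ[R] A := IsLocalization.Away.liftAlgHom h (f := Algebra.ofId R A) huA
  letI : Algebra R' A := φ.toRingHom.toAlgebra
  haveI : IsScalarTower R R' A := IsScalarTower.of_algebraMap_eq fun x => (φ.commutes x).symm
  have hinj : Function.Injective φ := by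
    rw [injective_iff_map_eq_zero]
    intro x hx
    obtain ⟨⟨a, s⟩, rfl⟩ := IsLocalization.mk'_surjective (Submonoid.powers h) x
    have ha : algebraMap R A a = 0 := by
      have h1 : IsLocalization.mk' R' a s * algebraMap R R' s.1 = algebraMap R R' a := IsLocalization.mk'_spec _ _ _
      have h2 := congrArg φ h1
      rw [map_mul, hx, zero_mul, φ.commutes] at h2
      exact h2.symm
    rw [IsLocalization.mk'_eq_zero_iff]
    exact ⟨⟨h, Submonoid.mem_powers _⟩, hker a ha⟩
  have hmem : A₀ ≤ φ.range := by
    rw [← hG, Algebra.adjoin_le_iff]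
    intro x hx
    obtain ⟨a, ha⟩ := hfG x hx
    refine ⟨IsLocalization.mk' R' (a * ∏ y, g y) (⟨h, Submonoid.mem_powers _⟩ : Submonoid.powers h), ?_⟩
    apply huA.mul_left_cancel
    have h1 : algebraMap R R' h * IsLocalization.mk' R' (a * ∏ y, g y) (⟨h, Submonoid.mem_powers _⟩ : Submonoid.powers h) =
        algebraMap R R' (a * ∏ y, g y) :=
      IsLocalization.mk'_spec' R' (a * ∏ y, g y) (⟨h, Submonoid.mem_powers _⟩ : Submonoid.powers h)
    have h2 := congrArg φ h1
    rw [map_mul, φ.commutes, φ.commutes, map_mul] at h2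
    show _ * φ _ = _
    have hh2 : algebraMap R A h = algebraMap R A f * algebraMap R A (∏ x, g x) := map_mul _ _ _
    rw [hh2, h2]
    have ha' : algebraMap R A a = algebraMap R A f * x := ha.trans (Algebra.smul_def _ _)
    rw [map_mul, ha']
    ring
  let ψ : A₀ →ₐ[R] R' := ((AlgEquiv.ofInjective φ hinj).symm : φ.range →ₐ[R] R').comp (Subalgebra.inclusion hmem)
  have hψ : ∀ a : A₀, φ (ψ a) = a := fun a =>
    congrArg Subtype.val ((AlgEquiv.ofInjective φ hinj).apply_symm_apply (Subalgebra.inclusion hmem a))
  letI : Algebra A₀ R' := ψ.toRingHom.toAlgebra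
  haveI : IsScalarTower A₀ R' A := IsScalarTower.of_algebraMap_eq fun x => (hψ x).symm
  let B₁ := R' ⊗[A₀] B₀
  haveI : Algebra.Smooth R' B₁ := inferInstance
  haveI : IsScalarTower R R' B₁ := inferInstance
  haveI : Algebra.Smooth R R' := Algebra.Smooth.of_isLocalization_Away h
  haveI : Algebra.Smooth R B₁ := Algebra.Smooth.comp R R' B₁
  haveI : TensorProduct.CompatibleSMul R R' A B₁ :=
    IsLocalization.tensorProduct_compatibleSMul (Submonoid.powers h) R' A B₁
  refine ⟨B₁, inferInstance, inferInstance, inferInstance, ⟨e.trans <|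
    (Algebra.TensorProduct.cancelBaseChange A₀ R' A A B₀).symm.trans
      (Algebra.TensorProduct.equivOfCompatibleSMul (T := A) (S := R') (R := R) (A := A) (B := B₁))⟩⟩

/-- The extension property holds for smooth affine schemes over a local ring. -/
theorem extProp_of_smooth_localization {S N : Scheme.{u}} (U : S.Opens) (pN : N ⟶ S)
    [LocallyOfFinitePresentation pN] (hN : ∀ (Y : Scheme.{u}) (pY : Y ⟶ S), Smooth pY → ExtProp U pN pY)
    (R : Type u) [CommRing R] [IsNoetherianRing R] (p : Ideal R) [p.IsPrime]
    (A : Type u) [CommRing A] [Algebra R A] [IsLocalization.AtPrime A p]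
    (B : Type u) [CommRing B] [Algebra A B] [Algebra.Smooth A B]
    (τ : Spec (CommRingCat.of R) ⟶ S) [Smooth τ] :
    ExtProp U pN (Spec.map (CommRingCat.ofHom (algebraMap A B)) ≫
      Spec.map (CommRingCat.ofHom (algebraMap R A)) ≫ τ) := by
  obtain ⟨B₁, _, _, hsm, ⟨e⟩⟩ := exists_smooth_model R p A B
  haveI : Algebra.FinitePresentation R B₁ := hsm.finitePresentation
  haveI : IsNoetherianRing B₁ := Algebra.FiniteType.isNoetherianRing R B₁
  letI : Algebra B₁ (A ⊗[R] B₁) := Algebra.TensorProduct.rightAlgebra
  haveI : IsLocalization (Algebra.algebraMapSubmonoid B₁ p.primeCompl) (A ⊗[R] B₁) :=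
    IsLocalization.tensorRight A p.primeCompl
  let t : Spec (CommRingCat.of B₁) ⟶ S := Spec.map (CommRingCat.ofHom (algebraMap R B₁)) ≫ τ
  haveI : Smooth (Spec.map (CommRingCat.ofHom (algebraMap R B₁))) := by
    rw [HasRingHomProperty.Spec_iff (P := @Smooth), CommRingCat.hom_ofHom, RingHom.smooth_algebraMap]
    exact hsm
  have hloc := extProp_localization (Algebra.algebraMapSubmonoid B₁ p.primeCompl) (A ⊗[R] B₁) U pN t
    fun b => hN _ _ (by
      haveI : IsOpenImmersion (Spec.map (CommRingCat.ofHom (algebraMap B₁ (Localization.Away b)))) :=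
        IsOpenImmersion.of_isLocalization b
      infer_instance)
  refine extProp_of_isIso U pN (Scheme.Spec.mapIso e.toRingEquiv.toCommRingCatIso.op.symm) ?_ hloc
  show Spec.map (CommRingCat.ofHom e.symm.toRingHom) ≫ Spec.map _ ≫ Spec.map _ ≫ τ =
    Spec.map _ ≫ Spec.map _ ≫ τ
  rw [← Spec.map_comp_assoc, ← Spec.map_comp_assoc, ← Spec.map_comp_assoc]
  congr 2
  ext r
  show e.symm.toRingHom (algebraMap B₁ (A ⊗[R] B₁) (algebraMap R B₁ r)) = algebraMap A B (algebraMap R A r)
  have : algebraMap B₁ (A ⊗[R] B₁) (algebraMap R B₁ r) = algebraMap A (A ⊗[R] B₁) (algebraMap R A r) := by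
    rw [Algebra.TensorProduct.algebraMap_apply, Algebra.algebraMap_self, RingHom.id_apply]
    exact (Algebra.TensorProduct.tmul_one_eq_one_tmul r).symm
  rw [this]
  exact e.symm.commutes _

end Groth.Agent.NeronDescLib
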